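import Groth.Prelude.Def_EtShriek2
import Mathlib

/-!
The locus where a section of an abelian etale sheaf vanishes is open.
-/

universe u

open CategoryTheory CategoryTheory.Limits AlgebraicGeometry Opposite

set_option backward.isDefEq.respectTransparency false

namespace Groth.Agent.EtSect

variable {S : Scheme.{u}} (F : EtCoh.Ab S)

theorem etale_left {V U : S.Etale} (φ : V ⟶ U) : AlgebraicGeometry.Etale φ.left := by
  have := U.prop
  have : AlgebraicGeometry.Etale (φ.left ≫ U.hom) := by rw [MorphismProperty.Over.w φ]; exact V.prop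
  exact AlgebraicGeometry.Etale.of_comp φ.left U.hom

theorem exists_pullback {V W U : S.Etale} (φ : V ⟶ U) (g : W ⟶ U) :
    ∃ (P : S.Etale) (a : P ⟶ V) (b : P ⟶ W), a ≫ φ = b ≫ g ∧
      ∀ (v : V.left) (w : W.left), φ.left v = g.left w → ∃ p : P.left, a.left p = v := by
  have := etale_left φ
  have := etale_left g
  have := V.prop
  let P : S.Etale := Scheme.Etale.mk (pullback.fst φ.left g.left ≫ V.hom)
  let a : P ⟶ V := MorphismProperty.Over.homMk (pullback.fst φ.left g.left) rfl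
  let b : P ⟶ W := MorphismProperty.Over.homMk (pullback.snd φ.left g.left) (by
    change _ = pullback.fst φ.left g.left ≫ V.hom
    rw [← MorphismProperty.Over.w g, ← Category.assoc, ← pullback.condition, Category.assoc,
      MorphismProperty.Over.w φ])
  refine ⟨P, a, b, MorphismProperty.Over.Hom.ext pullback.condition, fun v w h => ?_⟩
  obtain ⟨p, hp, -⟩ := Scheme.Pullback.exists_preimage_pullback v w h
  exact ⟨p, hp⟩

theorem eq_zero_of_cover {V : S.Etale} (σ : EtCoh.sect F V)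
    (h : ∀ v : V.left, ∃ (W : S.Etale) (g : W ⟶ V), v ∈ Set.range g.left ∧ F.obj.map g.op σ = 0) :
    σ = 0 := by
  choose W g hg hσ using h
  have hS : Sieve.ofArrows W g ∈ S.smallEtaleTopology V := by
    rw [Scheme.ofArrows_mem_smallEtaleTopology_iff]
    exact Set.eq_univ_of_forall fun v => Set.mem_iUnion.mpr ⟨v, hg v⟩
  have hs := Presieve.IsSheafFor.isSeparatedFor
    ((isSheaf_iff_isSheaf_of_type _ _).mp
      ((sheafCompose S.smallEtaleTopology (forget AddCommGrpCat.{u + 1})).obj F).property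
      (Sieve.ofArrows W g) hS)
  refine hs.ext fun T t ht => ?_
  obtain ⟨_, a, _, ⟨i⟩, rfl⟩ := ht
  change F.obj.map (a ≫ g i).op σ = F.obj.map (a ≫ g i).op 0
  rw [map_zero, op_comp, Functor.map_comp, ConcreteCategory.comp_apply, hσ, map_zero]

theorem mem_iff {U : S.Etale} (σ : EtCoh.sect F U) (x : U.left) :
    x ∉ EtShriek.sectSupp F U σ ↔
      ∃ (W : S.Etale) (g : W ⟶ U), x ∈ Set.range g.left ∧ F.obj.map g.op σ = 0 := by
  simp [EtShriek.sectSupp, Set.mem_range]

theorem isClosed_sectSupp {U : S.Etale} (σ : EtCoh.sect F U) :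
    IsClosed (EtShriek.sectSupp F U σ) := by
  refine ⟨isOpen_iff_forall_mem_open.mpr fun x hx => ?_⟩
  obtain ⟨W, g, hg, h0⟩ := (mem_iff F σ x).mp hx
  have := etale_left g
  exact ⟨Set.range g.left, fun y hy => (mem_iff F σ y).mpr ⟨W, g, hy, h0⟩,
    g.left.isOpenMap.isOpen_range, hg⟩

theorem map_eq_zero_iff {U V : S.Etale} (σ : EtCoh.sect F U) (φ : V ⟶ U) :
    F.obj.map φ.op σ = 0 ↔ Set.range φ.left ⊆ (EtShriek.sectSupp F U σ)ᶜ := by
  constructor
  · rintro h _ ⟨v, rfl⟩
    exact (mem_iff F σ _).mpr ⟨V, φ, ⟨v, rfl⟩, h⟩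
  · intro h
    refine eq_zero_of_cover F _ fun v => ?_
    obtain ⟨W, g, ⟨w, hw⟩, h0⟩ := (mem_iff F σ _).mp (h ⟨v, rfl⟩)
    obtain ⟨P, a, b, hab, hP⟩ := exists_pullback φ g
    obtain ⟨p, hp⟩ := hP v w hw.symm
    refine ⟨P, a, ⟨p, hp⟩, ?_⟩
    rw [← ConcreteCategory.comp_apply, ← Functor.map_comp, ← op_comp, hab, op_comp, Functor.map_comp,
      ConcreteCategory.comp_apply, h0, map_zero]

end Groth.Agent.EtSect
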